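import Mathlib

/-!
# Killed cochains of a complex with one cohomology module

If a complex of modules has a single cohomology module `M`, in degree `n`, on which a list of scalars is weakly regular,
and the scalars act on the terms in a divisible fashion, then the subcomplex of cochains killed by the scalars has no
cohomology below degree `n` plus the length of the list.
-/

universe u v

open RingTheory.Sequence Pointwise

namespace Groth.Agent.H1RegExt

variable {A : Type u} [CommRing A]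

section
variable (I : ℕ → Type v) [∀ j, AddCommGroup (I j)] [∀ j, Module A (I j)] (d : ∀ j, I j →ₗ[A] I (j + 1))

/-- Coboundaries. -/
def Bd : ∀ j, Submodule A (I j)
  | 0 => ⊥
  | j + 1 => LinearMap.range (d j)

/-- Divisibility of the killed parts. -/
def Div (l : List A) (g : A) : Prop :=
  ∀ j (y : I j), (∀ a ∈ l, a • y = 0) → ∃ z : I j, (∀ a ∈ l, a • z = 0) ∧ g • z = y

/-- The subspace killed by `f`. -/
abbrev Kf (f : A) (j : ℕ) : Submodule A (I j) := LinearMap.ker (LinearMap.lsmul A (I j) f)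

theorem smul_Kf (f : A) {j : ℕ} (x : Kf I f j) : f • (x : I j) = 0 := LinearMap.mem_ker.1 x.2

/-- The differential on the killed subspaces. -/
def dK (f : A) (j : ℕ) : ↥(Kf I f j) →ₗ[A] ↥(Kf I f (j + 1)) :=
  ((d j).comp (Kf I f j).subtype).codRestrict _ fun x => by
    rw [LinearMap.mem_ker, LinearMap.lsmul_apply, LinearMap.comp_apply, ← map_smul, Submodule.subtype_apply,
      smul_Kf I f x, map_zero]

theorem dK_coe (f : A) {j : ℕ} (x : Kf I f j) : (dK I d f j x : I (j + 1)) = d j x := rfl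

variable (hdd : ∀ j x, d (j + 1) (d j x) = 0) {n : ℕ} (hex : ∀ j, j ≠ n → ∀ y, d j y = 0 → y ∈ Bd I d j)
  {M : Type v} [AddCommGroup M] [Module A M] (π : LinearMap.ker (d n) →ₗ[A] M)
  (hπk : ∀ z, π z = 0 ↔ (z : I n) ∈ Bd I d n) {f : A} (hf : IsSMulRegular M f)
  (hdiv : ∀ j (y : I j), ∃ z : I j, f • z = y)

include hdd hex hπk hf hdiv in
theorem step_exact (j : ℕ) (hj : j ≠ n + 1) (y : Kf I f j) (hy : dK I d f j y = 0) :
    y ∈ Bd (fun j => ↥(Kf I f j)) (dK I d f) j := by
  have hy0 : d j y = 0 := congrArg Subtype.val hy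
  have hB : (y : I j) ∈ Bd I d j := by
    by_cases hjn : j = n
    · subst hjn
      refine (hπk ⟨y, hy0⟩).1 (hf ?_)
      show f • π ⟨y, hy0⟩ = f • (0 : M)
      rw [← map_smul, smul_zero]
      refine (congrArg π (Subtype.ext ?_)).trans (map_zero π)
      exact smul_Kf I f y
    · exact hex j hjn _ hy0
  cases j with
  | zero => exact Subtype.ext hB
  | succ i =>
    obtain ⟨z, hz⟩ := hB
    have hfz : d i (f • z) = 0 := by rw [map_smul, hz]; exact smul_Kf I f y
    have hB' := hex i (by omega) _ hfz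
    cases i with
    | zero => exact ⟨⟨z, hB'⟩, Subtype.ext hz⟩
    | succ k =>
      obtain ⟨v, hv⟩ := hB'
      obtain ⟨v', rfl⟩ := hdiv k v
      refine ⟨⟨z - d k v', ?_⟩, Subtype.ext ?_⟩
      · rw [LinearMap.mem_ker, LinearMap.lsmul_apply, smul_sub, ← map_smul, hv, sub_self]
      · show d (k + 1) (z - d k v') = _
        rw [map_sub, hdd, sub_zero, hz]

include hdd hex hπk hdiv in
theorem step_module (hπs : Function.Surjective π) :
    ∃ π' : LinearMap.ker (dK I d f (n + 1)) →ₗ[A] QuotSMulTop f M,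
      Function.Surjective π' ∧
        ∀ w, π' w = 0 ↔ (w : Kf I f (n + 1)) ∈ Bd (fun j => ↥(Kf I f j)) (dK I d f) (n + 1) := by
  have hlift : ∀ w : LinearMap.ker (dK I d f (n + 1)), ∃ v : I n, d n v = w.1.1 := fun w => by
    obtain ⟨v, hv⟩ := hex (n + 1) (Nat.succ_ne_self n) w.1.1 (congrArg Subtype.val w.2)
    exact ⟨v, hv⟩
  have hcyc : ∀ (v : I n) (w : Kf I f (n + 1)), d n v = w → f • v ∈ LinearMap.ker (d n) :=
    fun v w h => by rw [LinearMap.mem_ker, map_smul, h]; exact smul_Kf I f w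
  choose v hv using hlift
  let q : M →ₗ[A] QuotSMulTop f M := Submodule.mkQ _
  have hqf : ∀ m, q (f • m) = 0 := fun m =>
    (Submodule.Quotient.mk_eq_zero _).2 (Submodule.smul_mem_pointwise_smul m f ⊤ trivial)
  have huniq : ∀ (a b : I n) (ha : f • a ∈ LinearMap.ker (d n)) (hb : f • b ∈ LinearMap.ker (d n)),
      d n a = d n b → q (π ⟨f • a, ha⟩) = q (π ⟨f • b, hb⟩) := fun a b ha hb hab => by
    rw [← sub_eq_zero, ← map_sub, ← map_sub]
    have : (⟨f • a, ha⟩ - ⟨f • b, hb⟩ : LinearMap.ker (d n)) =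
        f • ⟨a - b, by rw [LinearMap.mem_ker, map_sub, hab, sub_self]⟩ := Subtype.ext (smul_sub f a b).symm
    rw [this, map_smul, hqf]
  let T : LinearMap.ker (dK I d f (n + 1)) → QuotSMulTop f M := fun w => q (π ⟨f • v w, hcyc _ w.1 (hv w)⟩)
  have hT : ∀ w (a : I n) (ha : f • a ∈ LinearMap.ker (d n)), d n a = w.1.1 → T w = q (π ⟨f • a, ha⟩) :=
    fun w a ha h => huniq _ a _ ha ((hv w).trans h.symm)
  let π' : LinearMap.ker (dK I d f (n + 1)) →ₗ[A] QuotSMulTop f M :=
    { toFun := T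
      map_add' := fun w w' => by
        have h : d n (v w + v w') = (w + w').1.1 := by rw [map_add, hv, hv]; rfl
        rw [hT _ _ (hcyc _ _ h) h, ← map_add, ← map_add]
        exact congrArg (fun t => q (π t)) (Subtype.ext (smul_add f _ _))
      map_smul' := fun a w => by
        have h : d n (a • v w) = (a • w).1.1 := by rw [map_smul, hv]; rfl
        rw [RingHom.id_apply, hT _ _ (hcyc _ _ h) h, ← map_smul, ← map_smul]
        exact congrArg (fun t => q (π t)) (Subtype.ext (smul_comm f a _)) }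
  refine ⟨π', fun m' => ?_, fun w => ⟨fun h => ?_, ?_⟩⟩
  · obtain ⟨m, rfl⟩ := Submodule.mkQ_surjective _ m'
    obtain ⟨c, rfl⟩ := hπs m
    obtain ⟨a, ha⟩ := hdiv n c.1
    have hc : d n (c : I n) = 0 := c.2
    let w : LinearMap.ker (dK I d f (n + 1)) :=
      ⟨⟨d n a, by rw [LinearMap.mem_ker, LinearMap.lsmul_apply, ← map_smul, ha, hc]⟩,
        LinearMap.mem_ker.2 (Subtype.ext (hdd n a))⟩
    refine ⟨w, (hT w a (ha.symm ▸ c.2) rfl).trans ?_⟩
    exact congrArg (fun t => q (π t)) (Subtype.ext ha)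
  · obtain ⟨m, -, hm⟩ := (Submodule.mem_smul_pointwise_iff_exists _ f ⊤).1 ((Submodule.Quotient.mk_eq_zero _).1 h)
    obtain ⟨c, rfl⟩ := hπs m
    have hB := (hπk (⟨f • v w, hcyc _ w.1 (hv w)⟩ - f • c)).1 (by rw [map_sub, map_smul, hm, sub_self])
    rw [Submodule.coe_sub, Submodule.coe_smul, ← smul_sub] at hB
    have hd0 : d n (v w - c.1) = w.1.1 := by
      rw [map_sub, hv, show d n (c : I n) = 0 from c.2, sub_zero]
    clear_value π' T
    cases n with
    | zero => exact ⟨⟨v w - c.1, hB⟩, Subtype.ext hd0⟩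
    | succ k =>
      obtain ⟨a, ha⟩ := hB
      obtain ⟨a', rfl⟩ := hdiv k a
      refine ⟨⟨v w - c.1 - d k a', ?_⟩, Subtype.ext ?_⟩
      · rw [LinearMap.mem_ker, LinearMap.lsmul_apply, smul_sub, ← map_smul, ha]
        exact sub_self _
      · show d (k + 1) (v w - c.1 - d k a') = _
        rw [map_sub, hdd, sub_zero, hd0]
  · rintro ⟨z, hz⟩
    have hfz : f • (z : I n) = 0 := smul_Kf I f z
    refine (hT w z.1 (hfz.symm ▸ zero_mem _) (congrArg Subtype.val hz)).trans ?_
    rw [show (⟨f • (z : I n), _⟩ : LinearMap.ker (d n)) = 0 from Subtype.ext hfz, map_zero, map_zero]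

end

/-- The main vanishing. -/
theorem vanish (rs : List A) : ∀ (I : ℕ → Type v) [∀ j, AddCommGroup (I j)] [∀ j, Module A (I j)]
    (d : ∀ j, I j →ₗ[A] I (j + 1)) (n : ℕ) (M : Type v) [AddCommGroup M] [Module A M]
    (π : LinearMap.ker (d n) →ₗ[A] M),
    (∀ j x, d (j + 1) (d j x) = 0) → (∀ j, j ≠ n → ∀ y, d j y = 0 → y ∈ Bd I d j) →
    Function.Surjective π → (∀ z, π z = 0 ↔ (z : I n) ∈ Bd I d n) → IsWeaklyRegular M rs →
    (∀ l g r, rs = l ++ g :: r → Div I l g) →
    ∀ j, j < n + rs.length → ∀ y : I j, (∀ a ∈ rs, a • y = 0) → d j y = 0 →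
      (y = 0 ∨ ∃ i, ∃ h : i + 1 = j, ∃ z : I i, (∀ a ∈ rs, a • z = 0) ∧ h ▸ d i z = y) := by
  induction rs with
  | nil =>
    intro I _ _ d n M _ _ π hdd hex _ _ _ _ j hj y _ hy
    have h := hex j (by simp at hj; omega) y hy
    cases j with
    | zero => exact Or.inl h
    | succ i =>
      obtain ⟨z, hz⟩ := h
      exact Or.inr ⟨i, rfl, z, fun a ha => absurd ha (by simp), hz⟩
  | cons f rs ih =>
    intro I _ _ d n M _ _ π hdd hex hπs hπk hreg hdiv j hj y hy hdy
    obtain ⟨hf, hreg'⟩ := (isWeaklyRegular_cons_iff M f rs).1 hreg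
    have hdivf : ∀ j (y : I j), ∃ z : I j, f • z = y := fun j y => by
      obtain ⟨z, -, hz⟩ := hdiv [] f rs rfl j y (by simp)
      exact ⟨z, hz⟩
    obtain ⟨π', hπ's, hπ'k⟩ := step_module I d hdd hex π hπk hdivf hπs
    have hdiv' : ∀ l g r, rs = l ++ g :: r → Div (fun j => ↥(Kf I f j)) l g := fun l g r h j y hy => by
      obtain ⟨z, hz, hgz⟩ := hdiv (f :: l) g r (by rw [h, List.cons_append]) j y (fun a ha => by
        rcases List.mem_cons.1 ha with rfl | ha
        · exact smul_Kf I _ y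
        · exact congrArg Subtype.val (hy a ha))
      exact ⟨⟨z, hz f (List.mem_cons_self ..)⟩, fun a ha => Subtype.ext (hz a (List.mem_cons_of_mem f ha)),
        Subtype.ext hgz⟩
    rcases ih (fun j => ↥(Kf I f j)) (dK I d f) (n + 1) _ π' (fun j x => Subtype.ext (hdd j x.1))
        (step_exact I d hdd hex π hπk hf hdivf) hπ's hπ'k hreg' hdiv' j
        (by simp at hj; omega) ⟨y, hy f (List.mem_cons_self ..)⟩
        (fun a ha => Subtype.ext (hy a (List.mem_cons_of_mem f ha))) (Subtype.ext hdy) with h | ⟨i, rfl, z, hz, he⟩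
    · exact Or.inl (congrArg Subtype.val h)
    · refine Or.inr ⟨i, rfl, z.1, fun a ha => ?_, congrArg Subtype.val he⟩
      rcases List.mem_cons.1 ha with rfl | ha
      · exact smul_Kf I _ z
      · exact congrArg Subtype.val (hz a ha)

end Groth.Agent.H1RegExt
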