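import Groth.Agent.ExtShX.FundSpread
import Groth.Agent.ExtShX.AdjShift
import Groth.Agent.ShriekSupp7.Scalar
import Groth.Agent.ParaFX.Closed
import Groth.Agent.S11327
import Mathlib

/-!
# Divisibility in injective modules by regular sequences of functions

For an injective module on a scheme and functions forming a weakly regular sequence in every local ring, every
germ killed by the first ones is divisible by the next one through a germ killed by them.
-/

set_option autoImplicit false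
set_option linter.style.haveILetI false
set_option linter.unusedSectionVars false
set_option backward.isDefEq.respectTransparency false
set_option backward.isDefEq.respectTransparency.types false
set_option maxHeartbeats 1000000

universe u

open CategoryTheory CategoryTheory.Limits AlgebraicGeometry TopologicalSpace Opposite RingTheory.Sequence Pointwise
open RefHull (stalkMapₗ stalkMapₗ_germ)

noncomputable section

namespace Groth.Agent.H1RegExt

open ExtShX.Fund (stalk_exact_elem stalk_injective_of_mono stalk_comp_zero)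

variable {Y : Scheme.{u}}

/-- A global function in a stalk. -/
abbrev gm (y : Y) (r : Γ(Y, ⊤)) : Y.presheaf.stalk y := Y.presheaf.germ ⊤ y trivial r

theorem app_smulModΓ (M : Y.Modules) (r : Γ(Y, ⊤)) (U : Y.Opens) (m : Γ(M, U)) :
    (Formal.smulModΓ M r).app U m = Y.presheaf.map (homOfLE (le_top : U ≤ ⊤)).op r • m := rfl

theorem stalk_smulModΓ (M : Y.Modules) (r : Γ(Y, ⊤)) (y : Y) (v : M.presheaf.stalk y) :
    stalkMapₗ (Formal.smulModΓ M r) y v = gm y r • v := by
  obtain ⟨U, hU, m, rfl⟩ := TopCat.Presheaf.exists_germ_eq M.presheaf v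
  rw [stalkMapₗ_germ, app_smulModΓ, QCoh.germ_smul']
  exact congrArg (· • _) (Y.presheaf.germ_res_apply _ y hU r)

theorem smulModΓ_naturality {M N : Y.Modules} (φ : M ⟶ N) (r : Γ(Y, ⊤)) :
    Formal.smulModΓ M r ≫ φ = φ ≫ Formal.smulModΓ N r := by
  refine Scheme.Modules.hom_ext _ _ fun U => ?_
  ext m
  exact φ.app_smul _ m

theorem homSectionsEquiv_smulModΓ (M : Y.Modules) (φ : Coh.structureModule Y ⟶ M) (r : Γ(Y, ⊤)) :
    ParaFX.homSectionsEquiv M (φ ≫ Formal.smulModΓ M r) = r • ParaFX.homSectionsEquiv M φ := by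
  rw [ParaFX.homSectionsEquiv_comp, app_smulModΓ]
  exact congrArg (· • _) (ConcreteCategory.congr_hom (Y.presheaf.map_id (op ⊤)) r)

/-- The quotient of the structure module by some global functions. -/
theorem exists_quot : ∀ l : List Γ(Y, ⊤), ∃ (Q : Y.Modules) (e : Coh.structureModule Y ⟶ Q),
    Epi e ∧ (∀ (y : Y) (c : Y.presheaf.stalk y), stalkMapₗ e y (c • H23.UnitSec.one y) = 0 →
      c ∈ Ideal.ofList (l.map (gm y))) ∧
    (∀ a ∈ l, e ≫ Formal.smulModΓ Q a = 0) ∧
    ∀ (M : Y.Modules) (φ : Coh.structureModule Y ⟶ M), (∀ a ∈ l, φ ≫ Formal.smulModΓ M a = 0) →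
      ∃ φ' : Q ⟶ M, e ≫ φ' = φ
  | [] => ⟨_, 𝟙 _, inferInstance, fun y c h => by
      rw [HomShX.stalkMapₗ_id, LinearMap.id_apply] at h
      rw [H23.UnitSec.eq_zero_of_smul_one c h]
      exact zero_mem _, fun a ha => absurd ha (by simp), fun M φ _ => ⟨φ, Category.id_comp φ⟩⟩
  | a :: l => by
    obtain ⟨Q, e, he, hker, hkill, huniv⟩ := exists_quot l
    refine ⟨cokernel (Formal.smulModΓ Q a), e ≫ cokernel.π _, inferInstance, fun y c h => ?_, ?_, fun M φ hφ => ?_⟩
    · rw [HomShX.stalkMapₗ_comp, LinearMap.comp_apply] at h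
      obtain ⟨w, hw⟩ := stalk_exact_elem
        (ShortComplex.exact_of_g_is_cokernel (ShortComplex.mk _ _ (cokernel.condition (Formal.smulModΓ Q a)))
          (cokernelIsCokernel _)) y _ h
      have hes : Function.Surjective (stalkMapₗ e y) := by
        haveI : PreservesFiniteColimits (DerSch.stalkFunctor Y y) := inferInstance
        exact (ModuleCat.epi_iff_surjective _).1 (inferInstance : Epi ((DerSch.stalkFunctor Y y).map e))
      obtain ⟨v, rfl⟩ := hes w
      obtain ⟨b, rfl⟩ := Submodule.mem_span_singleton.1 ((H23.UnitSec.span_one y).ge (Submodule.mem_top : v ∈ ⊤))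
      rw [stalk_smulModΓ] at hw
      have h1 : stalkMapₗ e y ((c - gm y a * b) • H23.UnitSec.one y) = 0 := by
        rw [sub_smul, map_sub, mul_smul, map_smul _ (gm y a), sub_eq_zero]
        exact hw.symm
      rw [List.map_cons, Ideal.ofList_cons]
      have h2 := add_mem (Ideal.mem_sup_right (S := Ideal.span {gm y a}) (hker y _ h1))
        (Ideal.mem_sup_left (T := Ideal.ofList (l.map (gm y)))
          (Ideal.mem_span_singleton'.2 ⟨b, mul_comm b (gm y a)⟩))
      rwa [sub_add_cancel] at h2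
    · intro b hb
      rcases List.mem_cons.1 hb with rfl | hb
      · rw [Category.assoc, ← smulModΓ_naturality, cokernel.condition, comp_zero]
      · rw [Category.assoc, ← smulModΓ_naturality, reassoc_of% (hkill b hb), zero_comp]
    · obtain ⟨φ', hφ'⟩ := huniv M φ fun b hb => hφ b (List.mem_cons_of_mem a hb)
      have h0 : Formal.smulModΓ Q a ≫ φ' = 0 := by
        rw [← cancel_epi e, smulModΓ_naturality, reassoc_of% hφ', comp_zero]
        exact hφ a (List.mem_cons_self ..)
      exact ⟨cokernel.desc _ φ' h0, by rw [Category.assoc, cokernel.π_desc, hφ']⟩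

/-- Divisibility of global sections of an injective module. -/
theorem exists_div_top (G : Y.Modules) [Injective G] (l : List Γ(Y, ⊤)) (f : Γ(Y, ⊤))
    (hreg : ∀ y : Y, IsWeaklyRegular (Y.presheaf.stalk y) ((l ++ [f]).map (gm y)))
    (s : Γ(G, ⊤)) (hs : ∀ a ∈ l, a • s = 0) : ∃ z : Γ(G, ⊤), (∀ a ∈ l, a • z = 0) ∧ f • z = s := by
  obtain ⟨Q, e, he, hker, hkill, huniv⟩ := exists_quot l
  haveI : Mono (Formal.smulModΓ Q f) := by
    refine HomShX.mono_of_stalk _ fun y => (injective_iff_map_eq_zero _).2 fun v hv => ?_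
    have hes : Function.Surjective (stalkMapₗ e y) := by
      haveI : PreservesFiniteColimits (DerSch.stalkFunctor Y y) := inferInstance
      exact (ModuleCat.epi_iff_surjective _).1 (inferInstance : Epi ((DerSch.stalkFunctor Y y).map e))
    obtain ⟨w, rfl⟩ := hes v
    obtain ⟨c, rfl⟩ := Submodule.mem_span_singleton.1 ((H23.UnitSec.span_one y).ge (Submodule.mem_top : w ∈ ⊤))
    rw [stalk_smulModΓ, ← map_smul, smul_smul] at hv
    have hfc := hker y _ hv
    have hz : ∀ b ∈ Ideal.ofList (l.map (gm y)), stalkMapₗ e y (b • H23.UnitSec.one y) = 0 := fun b hb => by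
      refine Submodule.span_induction (p := fun b _ => stalkMapₗ e y (b • H23.UnitSec.one y) = 0) ?_ ?_ ?_ ?_ hb
      · intro b hb
        obtain ⟨a, ha, rfl⟩ := List.mem_map.1 hb
        rw [map_smul, ← stalk_smulModΓ]
        exact stalk_comp_zero _ _ (hkill a ha) y _
      · rw [zero_smul, map_zero]
      · exact fun p q _ _ hp hq => by rw [add_smul, map_add, hp, hq, add_zero]
      · exact fun p q _ hq => by rw [smul_eq_mul, mul_smul, map_smul, hq, smul_zero]
    refine hz c ?_
    have hr := hreg y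
    rw [List.map_append, List.map_singleton, isWeaklyRegular_append_iff, isWeaklyRegular_singleton_iff] at hr
    have h := mem_of_isSMulRegular_quotient_of_smul_mem hr.2 (x := c)
      (by rw [smul_eq_mul, smul_eq_mul, Ideal.mul_top]; exact hfc)
    rwa [smul_eq_mul, Ideal.mul_top] at h
  obtain ⟨φ', hφ'⟩ := huniv G ((ParaFX.homSectionsEquiv G).symm s) fun a ha => by
    refine (ParaFX.homSectionsEquiv G).injective ?_
    rw [homSectionsEquiv_smulModΓ, Equiv.apply_symm_apply, hs a ha,
      ← comp_zero (f := (0 : Coh.structureModule Y ⟶ G)) (Z := G), ParaFX.homSectionsEquiv_comp,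
      Scheme.Modules.Hom.zero_app]
    rfl
  let ψ : Q ⟶ G := Injective.factorThru φ' (Formal.smulModΓ Q f)
  have hψ : Formal.smulModΓ Q f ≫ ψ = φ' := Injective.comp_factorThru _ _
  refine ⟨ParaFX.homSectionsEquiv G (e ≫ ψ), fun a ha => ?_, ?_⟩
  · rw [← homSectionsEquiv_smulModΓ, Category.assoc, ← smulModΓ_naturality, reassoc_of% (hkill a ha), zero_comp,
      ← comp_zero (f := (0 : Coh.structureModule Y ⟶ G)) (Z := G), ParaFX.homSectionsEquiv_comp,
      Scheme.Modules.Hom.zero_app]
    rfl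
  · rw [← homSectionsEquiv_smulModΓ, Category.assoc, ← smulModΓ_naturality, hψ, hφ', Equiv.apply_symm_apply]

/-- Divisibility of germs of an injective module. -/
theorem exists_div_germ {P : Scheme.{u}} (G : P.Modules) [Injective G] {U : P.Opens} {x : P} (hx : x ∈ U)
    (l : List Γ(P, U)) (f : Γ(P, U))
    (hreg : ∀ (y : P) (hy : y ∈ U), IsWeaklyRegular (P.presheaf.stalk y) ((l ++ [f]).map (P.presheaf.germ U y hy)))
    (v : G.presheaf.stalk x) (hv : ∀ a ∈ l, P.presheaf.germ U x hx a • v = 0) :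
    ∃ z : G.presheaf.stalk x, (∀ a ∈ l, P.presheaf.germ U x hx a • z = 0) ∧ P.presheaf.germ U x hx f • z = v := by
  classical
  obtain ⟨W₀, hW₀, s₀, rfl⟩ := TopCat.Presheaf.exists_germ_eq G.presheaf v
  let W₁ : P.Opens := W₀ ⊓ U
  obtain ⟨W, hWle, hxW, hW⟩ := ExtShX.Fund.exists_res_eq (M := G) (J := {a // a ∈ l.toFinset})
    (⟨hW₀, hx⟩ : x ∈ W₁) (fun a => AModX.resR (inf_le_right : W₁ ≤ U) a.1 • AModX.res G (inf_le_left : W₁ ≤ W₀) s₀)
    (fun _ => 0) (fun a => by
      rw [map_zero, QCoh.germ_smul', RefX.germ_res, RefX.germ_resR]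
      exact hv a.1 (List.mem_toFinset.1 a.2))
  have hWU : W ≤ U := hWle.trans inf_le_right
  let s₁ : Γ(G, W) := AModX.res G hWle (AModX.res G (inf_le_left : W₁ ≤ W₀) s₀)
  have hs₁ : ∀ a ∈ l, AModX.resR hWU a • s₁ = 0 := fun a ha => by
    have h := hW ⟨a, List.mem_toFinset.2 ha⟩
    rw [AModX.res_smul, AModX.resR_resR, map_zero] at h
    exact h
  haveI : Injective (G.restrict W.ι) := S11327.result P W G inferInstance
  have hWW : W.ι ''ᵁ ⊤ = W := W.ι_image_top
  let tr : Γ(P, U) → Γ((↑W : Scheme.{u}), ⊤) := fun a => (W.ι.appIso ⊤).hom (AModX.resR (hWW.le.trans hWU) a)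
  have htr : ∀ (w : (↑W : Scheme.{u})) (a : Γ(P, U)),
      gm w (tr a) = W.ι.stalkMap w (P.presheaf.germ U (W.ι w) (hWU w.2) a) := fun w a => by
    rw [Scheme.Hom.germ_stalkMap_apply]
    show (↑W : Scheme.{u}).presheaf.germ ⊤ w trivial ((W.ι.appIso ⊤).hom (P.presheaf.map _ a)) = _
    rw [Scheme.Hom.appIso_hom']
    refine (congrArg ((↑W : Scheme.{u}).presheaf.germ ⊤ w trivial)
      (ConcreteCategory.congr_hom (Scheme.Hom.map_appLE W.ι
        (W.ι.preimage_image_eq ⊤).ge (homOfLE (hWW.le.trans hWU)).op) a)).trans ?_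
    exact TopCat.Presheaf.germ_res_apply (U := (⊤ : (↑W : Scheme.{u}).Opens)) _ _ w trivial _
  let s' : Γ(G.restrict W.ι, ⊤) := (G.restrictAppIso W.ι ⊤).inv (AModX.res G hWW.le s₁)
  have hsmul : ∀ (r : Γ(P, W.ι ''ᵁ ⊤)) (m : Γ(G, W.ι ''ᵁ ⊤)),
      (G.restrictAppIso W.ι ⊤).inv (r • m) = (W.ι.appIso ⊤).hom r • (G.restrictAppIso W.ι ⊤).inv m := fun r m =>
    ConcreteCategory.congr_hom (Scheme.Modules.smul_restrictAppIso_inv W.ι G ⊤ r) m
  have hsmul' : ∀ (a : Γ(P, U)) (t : Γ(G.restrict W.ι, ⊤)),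
      AModX.resR (hWW.le.trans hWU) a • (G.restrictAppIso W.ι ⊤).hom t = (G.restrictAppIso W.ι ⊤).hom (tr a • t) :=
    fun a t => by
      apply (ConcreteCategory.bijective_of_isIso (G.restrictAppIso W.ι ⊤).inv).1
      rw [hsmul, Iso.hom_inv_id_apply, Iso.hom_inv_id_apply]
  obtain ⟨z, hz, hfz⟩ := exists_div_top (G.restrict W.ι) (l.map tr) (tr f) (fun w => by
    have h := hreg (W.ι w) (hWU w.2)
    let e := (asIso (W.ι.stalkMap w)).commRingCatIsoToRingEquiv
    rw [AddEquiv.isWeaklyRegular_congr (e := e.toAddEquiv)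
      (bs := (l.map tr ++ [tr f]).map (gm w)) ?_] at h
    · exact h
    · rw [show l.map tr ++ [tr f] = (l ++ [f]).map tr by simp, List.map_map, List.forall₂_map_left_iff,
        List.forall₂_map_right_iff, List.forall₂_same]
      intro a _ c
      show e (_ * c) = gm w (tr a) * e c
      rw [map_mul, htr]
      rfl) s' (fun a ha => by
    obtain ⟨b, hb, rfl⟩ := List.mem_map.1 ha
    show (W.ι.appIso ⊤).hom _ • _ = 0
    rw [← hsmul, ← AModX.resR_resR hWU hWW.le b, ← AModX.res_smul, hs₁ b hb, map_zero, map_zero])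
  let z₁ : Γ(G, W.ι ''ᵁ ⊤) := (G.restrictAppIso W.ι ⊤).hom z
  have hxW' : x ∈ W.ι ''ᵁ ⊤ := hWW.ge hxW
  refine ⟨G.presheaf.germ _ x hxW' z₁, fun a ha => ?_, ?_⟩
  · rw [← RefX.germ_resR (hWW.le.trans hWU) hxW' a, ← QCoh.germ_smul', hsmul',
      hz _ (List.mem_map.2 ⟨a, ha, rfl⟩), map_zero, map_zero]
  · rw [← RefX.germ_resR (hWW.le.trans hWU) hxW' f, ← QCoh.germ_smul', hsmul', hfz, Iso.inv_hom_id_apply,
      RefX.germ_res, RefX.germ_res, RefX.germ_res]

end Groth.Agent.H1RegExt

end
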